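import Groth.Agent.LC.PdRegular
import Mathlib

/-!
# Modules of depth one over plane curve singularities: square presentations
-/

universe u

open IsLocalRing Groth.Agent.RegLoc6

namespace Groth.Agent.PlanarExt

/-- A regular element in the maximal ideal gives depth at least one. -/
theorem one_le_depth_of_regular {R : Type u} [CommRing R] [IsLocalRing R] {L : Type u} [AddCommGroup L]
    [Module R L] {x : R} (hx : x ∈ maximalIdeal R) (hreg : IsSMulRegular L x) :
    (1 : ℕ∞) ≤ LocCoh.depth R L := by
  rw [LocCoh.depth, LocCoh.idealDepth]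
  split_ifs with h
  · exact le_top
  · refine le_iSup₂_of_le [x] ⟨?_, by simpa using hx⟩ (by simp)
    rw [RingTheory.Sequence.isWeaklyRegular_cons_iff]
    exact ⟨hreg, RingTheory.Sequence.IsWeaklyRegular.nil _ _⟩

/-- A module with a regular element over `S/(f)`, `S` regular of dimension two, has a square
presentation. -/
theorem exists_square_presentation {S : Type u} [CommRing S] [IsRegularLocalRing S]
    (hS : ringKrullDim S = 2) {f : S} (hf : f ≠ 0) {R : Type u} [CommRing R] [IsLocalRing R]
    (π : S →+* R) (hπ : Function.Surjective π) (hker : RingHom.ker π = Ideal.span {f})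
    (L : Type u) [AddCommGroup L] [Module R L] [Module.Finite R L]
    {x : R} (hx : x ∈ maximalIdeal R) (hreg : IsSMulRegular L x) :
    ∃ (r : ℕ) (φ : (Fin r → R) →ₗ[R] (Fin r → R)) (p : (Fin r → R) →ₗ[R] L),
      Function.Surjective p ∧ Function.Exact φ p := by
  classical
  haveI : IsLocalHom π := IsLocalHom.of_surjective π hπ
  letI : Module S L := Module.compHom L π
  have hsmul : ∀ (s : S) (l : L), s • l = π s • l := fun _ _ => rfl
  haveI : Module.Finite S L := by
    obtain ⟨t, ht⟩ := Module.Finite.fg_top (R := R) (M := L)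
    refine ⟨⟨t, top_le_iff.1 fun l hl' => ?_⟩⟩
    clear hl'
    have hl : l ∈ Submodule.span R (t : Set L) := ht ▸ Submodule.mem_top
    induction hl using Submodule.span_induction with
    | mem z hz => exact Submodule.subset_span hz
    | zero => exact zero_mem _
    | add a b _ _ ha hb => exact add_mem ha hb
    | smul c a _ ha =>
      obtain ⟨c, rfl⟩ := hπ c
      rw [← hsmul]
      exact Submodule.smul_mem _ c ha
  obtain ⟨x', rfl⟩ := hπ x
  have hx' : x' ∈ maximalIdeal S := by
    rw [mem_maximalIdeal, mem_nonunits_iff] at hx ⊢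
    exact fun h => hx (h.map π)
  have hreg' : IsSMulRegular L x' := fun a b h => hreg (by simpa [hsmul] using h)
  have hpd : PdLE S 1 L := LC.pdLE_of_le_depth S 2 (by rw [hS]; rfl) L 1 (by
    have h1 := one_le_depth_of_regular hx' hreg'
    calc ((2 : ℕ) : ℕ∞) = 1 + 1 := by norm_num
      _ ≤ _ := add_le_add h1 le_rfl)
  obtain ⟨b, q, hq⟩ := Module.Finite.exists_fin' S L
  haveI : Module.Projective S (LinearMap.ker q) := pdLE_zero_iff.1 ((pdLE_succ_iff q hq).1 hpd)
  haveI : Module.Flat S (LinearMap.ker q) := Module.Flat.of_projective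
  haveI : Module.Finite S (LinearMap.ker q) := Module.Finite.iff_fg.2 (IsNoetherian.noetherian _)
  haveI : Module.Free S (LinearMap.ker q) := Module.free_of_flat_of_isLocalRing
  have hrank : Module.finrank S (LinearMap.ker q) = b := by
    haveI : IsDomain S := RegLoc6.isDomain_of_isRegularLocalRing S
    refine le_antisymm ((Submodule.finrank_le _).trans (by rw [Module.finrank_fin_fun])) ?_
    have hfq : ∀ v : Fin b → S, (f • v) ∈ LinearMap.ker q := fun v => by
      rw [LinearMap.mem_ker, map_smul, hsmul, RingHom.mem_ker.1 (hker.ge (Ideal.mem_span_singleton_self f)), zero_smul]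
    let μ : (Fin b → S) →ₗ[S] LinearMap.ker q := (f • LinearMap.id).codRestrict _ hfq
    have hμ : Function.Injective μ := fun v w h => smul_right_injective _ hf (congrArg Subtype.val h)
    have := LinearMap.finrank_le_finrank_of_injective hμ
    rwa [Module.finrank_fin_fun] at this
  let bK : Module.Basis (Fin b) S (LinearMap.ker q) := Module.finBasisOfFinrankEq S _ hrank
  let col : Fin b → Fin b → R := fun j i => π ((bK j : Fin b → S) i)
  let φ : (Fin b → R) →ₗ[R] (Fin b → R) := Fintype.linearCombination R col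
  let p : (Fin b → R) →ₗ[R] L := Fintype.linearCombination R fun i => q (Pi.single i 1)
  have hp : ∀ v : Fin b → S, p (fun i => π (v i)) = q v := fun v => by
    conv_rhs => rw [pi_eq_sum_univ v]
    simp only [p, Fintype.linearCombination_apply, map_sum, map_smul, hsmul]
    refine Finset.sum_congr rfl fun i _ => ?_
    congr 2
    funext t; simp [Pi.single_apply, eq_comm]
  have hφ : ∀ w : Fin b → S, φ (fun j => π (w j)) = fun i => π ((∑ j, w j • (bK j : Fin b → S)) i) := fun w => by
    funext i
    simp [φ, col, Fintype.linearCombination_apply, map_sum, map_mul]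
  refine ⟨b, φ, p, fun l => ?_, fun v => ⟨fun hv => ?_, fun hv => ?_⟩⟩
  · obtain ⟨v, rfl⟩ := hq l
    exact ⟨_, hp v⟩
  · obtain ⟨v, rfl⟩ := hπ.comp_left v
    have hk : v ∈ LinearMap.ker q := by
      rw [LinearMap.mem_ker, ← hp]
      exact hv
    refine ⟨fun j => π (bK.repr ⟨v, hk⟩ j), ?_⟩
    rw [hφ]
    funext i
    have h := congrArg (fun z : LinearMap.ker q => (z : Fin b → S) i) (bK.sum_repr ⟨v, hk⟩)
    simp only [Submodule.coe_sum, Submodule.coe_smul] at h
    rw [h]
    rfl
  · obtain ⟨w, rfl⟩ := hv
    obtain ⟨w, rfl⟩ := hπ.comp_left w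
    show p (φ fun j => π (w j)) = 0
    rw [hφ, hp, ← LinearMap.mem_ker]
    exact Submodule.sum_mem _ fun j _ => Submodule.smul_mem _ _ (bK j).2

/-- If `a` annihilates the cokernel of a square matrix, a power of `a` factors through it from the left. -/
theorem exists_left_inverse_pow {R : Type u} [CommRing R] {r : ℕ} (φ : (Fin r → R) →ₗ[R] (Fin r → R)) (a : R)
    (ha : ∀ v, a • v ∈ LinearMap.range φ) :
    ∃ ω : (Fin r → R) →ₗ[R] (Fin r → R), ω ∘ₗ φ = a ^ r • LinearMap.id := by
  classical
  choose w hw using fun i => ha (Pi.single i 1)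
  have hψ : φ ∘ₗ Fintype.linearCombination R w = a • LinearMap.id :=
    LinearMap.pi_ext' fun i => LinearMap.ext_ring (by simp [hw i])
  set P := LinearMap.toMatrix' φ with hP
  set Q := LinearMap.toMatrix' (Fintype.linearCombination R w) with hQ
  have hPQ : P * Q = a • (1 : Matrix (Fin r) (Fin r) R) := by
    rw [hP, hQ, ← LinearMap.toMatrix'_comp, hψ, map_smul, LinearMap.toMatrix'_id]
  have hdet : P.det * Q.det = a ^ r := by
    rw [← Matrix.det_mul, hPQ, Matrix.det_smul, Matrix.det_one, mul_one, Fintype.card_fin]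
  refine ⟨Matrix.toLin' (Q.det • P.adjugate), ?_⟩
  refine LinearMap.toMatrix'.injective ?_
  rw [LinearMap.toMatrix'_comp, LinearMap.toMatrix'_toLin', map_smul, LinearMap.toMatrix'_id, ← hP,
    Matrix.smul_mul, Matrix.adjugate_mul, smul_smul, mul_comm, hdet]

end Groth.Agent.PlanarExt
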